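import Groth.Agent.Lib.FlatSyz.Kernel
import Groth.Agent.Lib.FlatH4.FibreCritApps
import Mathlib.RingTheory.Flat.EquationalCriterion
import Mathlib.RingTheory.Flat.Localization
import Mathlib.Algebra.Category.ModuleCat.ProjectiveDimension

/-!
# Projective dimension of flat finitely presented modules is computed on fibres
-/

universe u

namespace Groth.Agent.FlatSyz

open TensorProduct LinearMap CategoryTheory

/-- The kernel of a surjection between flat modules is flat. -/
theorem flat_of_exact {R K F M : Type u} [CommRing R] [AddCommGroup K] [Module R K] [AddCommGroup F]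
    [Module R F] [AddCommGroup M] [Module R M] [Module.Flat R F] [Module.Flat R M]
    (i : K →ₗ[R] F) (hi : Function.Injective i) (p : F →ₗ[R] M) (hip : Function.Exact i p)
    (hp : Function.Surjective p) : Module.Flat R K := by
  refine Module.Flat.iff_lTensor_preserves_injective_linearMap.2 fun N N' _ _ _ _ g hg => ?_
  have h1 : Function.Injective (i.rTensor N) := by
    have := lTensor_subtype_injective_of_flat_quotient i hi p hip hp N
    intro x y hxy
    apply (TensorProduct.comm R K N).injective
    apply this
    have key : ∀ z, i.lTensor N (TensorProduct.comm R K N z) = TensorProduct.comm R F N (i.rTensor N z) := by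
      intro z
      induction z using TensorProduct.induction_on with
      | zero => simp
      | tmul a b => simp
      | add a b ha hb => simp only [map_add, ha, hb]
    rw [key, key, hxy]
  intro x y hxy
  apply h1
  apply Module.Flat.lTensor_preserves_injective_linearMap (M := F) g hg
  rw [← LinearMap.comp_apply, ← LinearMap.comp_apply, lTensor_comp_rTensor, ← rTensor_comp_lTensor,
    LinearMap.comp_apply, LinearMap.comp_apply, hxy]

variable {A B : Type u} [CommRing A] [CommRing B] [Algebra A B]

/-- A localization of an `A`-flat module is `A`-flat. -/
theorem flat_localizedModule {M : Type u} [AddCommGroup M] [Module A M] [Module B M]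
    [IsScalarTower A B M] [Module.Flat A M] (S : Submonoid B) :
    Module.Flat A (LocalizedModule S M) := by
  let L := Localization S
  let e : L ⊗[B] M ≃ₗ[B] LocalizedModule S M :=
    ((IsLocalizedModule.isBaseChange S L (LocalizedModule.mkLinearMap S M)).equiv).restrictScalars B
  suffices Module.Flat A (L ⊗[B] M) from Module.Flat.of_linearEquiv (e.restrictScalars A).symm
  haveI : Module.Flat B L := IsLocalization.flat L S
  refine Module.Flat.iff_lTensor_preserves_injective_linearMap.2 fun N N' _ _ _ _ g hg => ?_
  let gM : M ⊗[A] N →ₗ[B] M ⊗[A] N' := AlgebraTensorModule.lTensor B M g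
  have hgM : Function.Injective gM :=
    Module.Flat.lTensor_preserves_injective_linearMap (M := M) g hg
  have h2 : Function.Injective (gM.lTensor L) :=
    Module.Flat.lTensor_preserves_injective_linearMap gM hgM
  have key : ∀ z, AlgebraTensorModule.assoc A B B L M N' (g.lTensor _ z) =
      gM.lTensor L (AlgebraTensorModule.assoc A B B L M N z) := by
    intro z
    induction z using TensorProduct.induction_on with
    | zero => simp
    | add a b ha hb => simp only [map_add, ha, hb]
    | tmul lm n =>
      induction lm using TensorProduct.induction_on with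
      | zero => simp
      | add a b ha hb => simp only [TensorProduct.add_tmul, map_add, ha, hb]
      | tmul l m => simp [gM]
  intro x y hxy
  apply (AlgebraTensorModule.assoc A B B L M N).injective
  apply h2
  rw [← key, ← key, hxy]

/-- The fibre of `M` at `p`, as a module over the fibre of `B`. -/
abbrev Fib (B M : Type u) [CommRing B] [Algebra A B] [AddCommGroup M] [Module B M] (p : PrimeSpectrum A) :
    Type u :=
  (B ⊗[A] p.asIdeal.ResidueField) ⊗[B] M

variable [Algebra.FinitePresentation A B]

/-- Flatness over `B` of an `A`-flat finitely presented module is detected on the fibres. -/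
theorem flat_of_flat_fibres {M : Type u} [AddCommGroup M] [Module A M] [Module B M]
    [IsScalarTower A B M] [Module.FinitePresentation B M] [Module.Flat A M]
    (h : ∀ p : PrimeSpectrum A, Module.Flat (B ⊗[A] p.asIdeal.ResidueField) (Fib B M p)) :
    Module.Flat B M := by
  refine FlatH4.flat_of_localized_maximal_algebra (R := B) (S := B) fun q _ => ?_
  haveI := flat_localizedModule (A := A) (M := M) q.primeCompl
  exact FlatH4.flat_localized_of_fibFlat_fp (A := A) q
    (FlatH4.fibFlat_of_flat_fibre (PrimeSpectrum.comap (algebraMap A B) ⟨q, inferInstance⟩).asIdeal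
      (h _) q le_rfl)

/-- Base change to a fibre keeps presentations of flat modules exact. -/
theorem baseChange_fib_exact {K F M : Type u} [AddCommGroup K] [Module B K] [AddCommGroup F] [Module B F]
    [AddCommGroup M] [Module A M] [Module B M] [IsScalarTower A B M] [Module.Flat A M]
    [Module A K] [IsScalarTower A B K] [Module A F] [IsScalarTower A B F]
    (i : K →ₗ[B] F) (hi : Function.Injective i) (π : F →ₗ[B] M) (hex : Function.Exact i π)
    (hπ : Function.Surjective π) (p : PrimeSpectrum A) :
    Function.Injective (i.baseChange (B ⊗[A] p.asIdeal.ResidueField)) ∧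
      Function.Exact (i.baseChange (B ⊗[A] p.asIdeal.ResidueField))
        (π.baseChange (B ⊗[A] p.asIdeal.ResidueField)) ∧
      Function.Surjective (π.baseChange (B ⊗[A] p.asIdeal.ResidueField)) := by
  let k := p.asIdeal.ResidueField
  refine ⟨?_, _root_.lTensor_exact _ hex hπ, LinearMap.lTensor_surjective _ hπ⟩
  let eK := (TensorProduct.comm B (B ⊗[A] k) K).trans (AlgebraTensorModule.cancelBaseChange A B B K k)
  let eF := (TensorProduct.comm B (B ⊗[A] k) F).trans (AlgebraTensorModule.cancelBaseChange A B B F k)
  have h1 : Function.Injective ((i.restrictScalars A).rTensor k) := by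
    have := lTensor_subtype_injective_of_flat_quotient (i.restrictScalars A) hi (π.restrictScalars A)
      hex hπ k
    intro x y hxy
    apply (TensorProduct.comm A K k).injective
    apply this
    have key : ∀ z, (i.restrictScalars A).lTensor k (TensorProduct.comm A K k z) =
        TensorProduct.comm A F k ((i.restrictScalars A).rTensor k z) := by
      intro z
      induction z using TensorProduct.induction_on with
      | zero => simp
      | tmul a b => simp
      | add a b ha hb => simp only [map_add, ha, hb]
    rw [key, key, hxy]
  have key : ∀ z, eF (i.baseChange (B ⊗[A] k) z) = (i.restrictScalars A).rTensor k (eK z) := by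
    intro z
    induction z using TensorProduct.induction_on with
    | zero => simp
    | add a b ha hb => simp only [map_add, ha, hb]
    | tmul c x =>
      induction c using TensorProduct.induction_on with
      | zero => simp
      | add a b ha hb => simp only [TensorProduct.add_tmul, map_add, ha, hb]
      | tmul b r => simp [eF, eK]
  intro x y hxy
  apply eK.injective
  apply h1
  rw [← key, ← key, hxy]

/-- Projective dimension at most `n` shifts along a presentation. -/
theorem hasProjectiveDimensionLE_succ_iff {R K F M : Type u} [CommRing R] [AddCommGroup K] [Module R K]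
    [AddCommGroup F] [Module R F] [AddCommGroup M] [Module R M] [Module.Projective R F]
    (i : K →ₗ[R] F) (hi : Function.Injective i) (π : F →ₗ[R] M) (hex : Function.Exact i π)
    (hπ : Function.Surjective π) (n : ℕ) :
    HasProjectiveDimensionLE (ModuleCat.of R M) (n + 1) ↔
      HasProjectiveDimensionLE (ModuleCat.of R K) n := by
  let S := ModuleCat.shortComplexOfCompEqZero i π hex.linearMap_comp_eq_zero
  have hS : S.ShortExact := ModuleCat.shortComplex_shortExact S hex hi hπ
  exact hS.hasProjectiveDimensionLT_X₃_iff n
    ((IsProjective.iff_projective (R := R) F).1 inferInstance)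

/-- Projective dimension zero means flat, for finitely presented modules. -/
theorem hasProjectiveDimensionLE_zero_iff_flat {R M : Type u} [CommRing R] [AddCommGroup M] [Module R M]
    [Module.FinitePresentation R M] :
    HasProjectiveDimensionLE (ModuleCat.of R M) 0 ↔ Module.Flat R M := by
  rw [← projective_iff_hasProjectiveDimensionLE_zero, ← IsProjective.iff_projective]
  exact ⟨fun _ => inferInstance, fun _ => Module.Flat.projective_of_finitePresentation⟩

variable [Module.Flat A B]

/-- Projective dimension at most `n` is checked on fibres. -/
theorem hasProjectiveDimensionLE_iff_fibres (n : ℕ) :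
    ∀ (M : Type u) [AddCommGroup M] [Module A M] [Module B M] [IsScalarTower A B M]
      [Module.FinitePresentation B M] [Module.Flat A M],
      HasProjectiveDimensionLE (ModuleCat.of B M) n ↔ ∀ p : PrimeSpectrum A,
        HasProjectiveDimensionLE (ModuleCat.of (B ⊗[A] p.asIdeal.ResidueField) (Fib B M p)) n := by
  induction n with
  | zero =>
    intro M _ _ _ _ _ _
    simp only [hasProjectiveDimensionLE_zero_iff_flat]
    exact ⟨fun _ p => inferInstance, flat_of_flat_fibres⟩
  | succ n ih =>
    classical
    intro M _ _ _ _ _ _
    obtain ⟨k, π, hπ⟩ := Module.Finite.exists_fin' B M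
    haveI := finitePresentation_ker (A := A) π hπ
    haveI : Module.Flat A (Fin k → B) :=
      haveI : Module.Flat A (Π₀ _ : Fin k, B) := Module.Flat.dfinsupp_iff.2 fun _ => inferInstance
      Module.Flat.of_linearEquiv
        ((Finsupp.linearEquivFunOnFinite A B (Fin k)).symm.trans (finsuppLequivDFinsupp A))
    haveI : Module.Flat A (LinearMap.ker π) :=
      flat_of_exact ((LinearMap.ker π).subtype.restrictScalars A) (LinearMap.ker π).injective_subtype
        (π.restrictScalars A) (LinearMap.exact_subtype_ker_map π) hπ
    rw [hasProjectiveDimensionLE_succ_iff _ (LinearMap.ker π).injective_subtype π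
      (LinearMap.exact_subtype_ker_map π) hπ n, ih (LinearMap.ker π)]
    refine forall_congr' fun p => ?_
    obtain ⟨h1, h2, h3⟩ := baseChange_fib_exact _ (LinearMap.ker π).injective_subtype π
      (LinearMap.exact_subtype_ker_map π) hπ p
    exact (hasProjectiveDimensionLE_succ_iff _ h1 _ h2 h3 n).symm

omit [Module.Flat A B] in
/-- A finitely presented module with zero fibres is zero. -/
theorem subsingleton_of_fibres {M : Type u} [AddCommGroup M] [Module A M] [Module B M]
    [IsScalarTower A B M] [Module.Finite B M]
    (h : ∀ p : PrimeSpectrum A, Subsingleton (Fib B M p)) : Subsingleton M := by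
  rw [← Module.support_eq_empty_iff (R := B)]
  refine Set.eq_empty_of_forall_notMem fun q hq => ?_
  haveI := h (PrimeSpectrum.comap (algebraMap A B) q)
  let k := (PrimeSpectrum.comap (algebraMap A B) q).asIdeal.ResidueField
  let φ : B ⊗[A] k →ₐ[B] q.asIdeal.ResidueField :=
    Algebra.TensorProduct.lift (Algebra.ofId B _)
      (Ideal.ResidueField.mapₐ (PrimeSpectrum.comap (algebraMap A B) q).asIdeal q.asIdeal
        (Algebra.ofId A B) rfl) fun _ _ => Commute.all _ _
  rw [Module.mem_support_iff_nontrivial_residueField_tensorProduct] at hq
  rw [← not_subsingleton_iff_nontrivial] at hq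
  refine hq (subsingleton_of_forall_eq 0 fun x => ?_)
  induction x using TensorProduct.induction_on with
  | zero => rfl
  | add a b ha hb => rw [ha, hb, add_zero]
  | tmul c m =>
    have h0 : ((1 : B ⊗[A] k) ⊗ₜ[B] m : Fib B M _) = 0 := Subsingleton.elim _ _
    have h1 : ((1 : q.asIdeal.ResidueField) ⊗ₜ[B] m) = 0 := by
      have := congrArg (φ.toLinearMap.rTensor M) h0
      rwa [LinearMap.rTensor_tmul, AlgHom.toLinearMap_apply, map_one, map_zero] at this
    have : c ⊗ₜ[B] m = c • ((1 : q.asIdeal.ResidueField) ⊗ₜ[B] m) := by
      rw [TensorProduct.smul_tmul', smul_eq_mul, mul_one]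
    rw [this, h1, smul_zero]

end Groth.Agent.FlatSyz
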