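import Groth.Agent.Lib.FlatH4.FlatDescent
import Mathlib.RingTheory.TensorProduct.MvPolynomial
import Mathlib.Algebra.Module.FinitePresentation
import Mathlib.LinearAlgebra.TensorProduct.Pi
import Mathlib.RingTheory.FiniteType
import Mathlib.LinearAlgebra.Finsupp.LinearCombination

/-!
# Kernels of presentations of flat finitely presented modules

If `B` is a finitely presented `A`-algebra and `F ↠ M` is a surjection of finitely presented
`B`-modules with `M` flat over `A`, the kernel is finitely presented.
-/

universe u

namespace Groth.Agent.FlatSyz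

open TensorProduct LinearMap

/-- A short exact sequence with flat cokernel stays injective after tensoring. -/
theorem lTensor_subtype_injective_of_flat_quotient {R : Type u} [CommRing R] {X : Type u}
    [AddCommGroup X] [Module R X] {M : Type u} [AddCommGroup M] [Module R M] [Module.Flat R M]
    {K : Type u} [AddCommGroup K] [Module R K] (i : K →ₗ[R] X) (hi : Function.Injective i)
    (p : X →ₗ[R] M) (hip : Function.Exact i p) (hp : Function.Surjective p)
    (A : Type u) [AddCommGroup A] [Module R A] : Function.Injective (i.lTensor A) := by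
  suffices ∀ (L : Type u) [AddCommGroup L] [Module R L] [Module.Flat R L] (q : L →ₗ[R] A),
      Function.Surjective q → Function.Injective (i.lTensor A) from
    this (A →₀ R) (Finsupp.linearCombination R id) (Finsupp.linearCombination_id_surjective R A)
  intro L _ _ _ q hq
  let j := (LinearMap.ker q).subtype
  have hjq : Function.Exact j q := LinearMap.exact_subtype_ker_map q
  rw [injective_iff_map_eq_zero]
  intro z hz
  obtain ⟨w, rfl⟩ := LinearMap.rTensor_surjective K hq z
  have h1 : q.rTensor X (i.lTensor _ w) = 0 := by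
    rw [← hz, ← LinearMap.comp_apply, rTensor_comp_lTensor, ← lTensor_comp_rTensor, LinearMap.comp_apply]
  obtain ⟨u, hu⟩ := (_root_.rTensor_exact X hjq hq _).1 h1
  have h2 : p.lTensor _ u = 0 := by
    apply Module.Flat.rTensor_preserves_injective_linearMap (M := M) j (LinearMap.ker q).injective_subtype
    rw [map_zero, ← LinearMap.comp_apply, rTensor_comp_lTensor, ← lTensor_comp_rTensor,
      LinearMap.comp_apply, hu, ← LinearMap.comp_apply, ← lTensor_comp, hip.linearMap_comp_eq_zero,
      lTensor_zero, LinearMap.zero_apply]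
  obtain ⟨v, rfl⟩ := (lTensor_exact _ hip hp _).1 h2
  have h3 : i.lTensor _ (w - j.rTensor K v) = 0 := by
    rw [map_sub, ← hu, ← LinearMap.comp_apply (i.lTensor _), lTensor_comp_rTensor,
      ← rTensor_comp_lTensor, LinearMap.comp_apply, sub_self]
  have h4 := Module.Flat.lTensor_preserves_injective_linearMap (M := L) i hi
    (h3.trans (map_zero _).symm)
  rw [sub_eq_zero] at h4
  rw [h4, ← LinearMap.comp_apply, ← rTensor_comp, hjq.linearMap_comp_eq_zero, rTensor_zero,
    LinearMap.zero_apply]

section MapVec

variable {R A : Type u} [CommRing R] [CommRing A] [Algebra R A] {n : ℕ}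

local notation "P₀" => MvPolynomial (Fin n) R
local notation "P" => MvPolynomial (Fin n) A

/-- Coefficientwise change of rings on vectors of polynomials. -/
noncomputable def mapVec (A : Type u) [CommRing A] [Algebra R A] {k : ℕ} (v : Fin k → P₀) :
    Fin k → MvPolynomial (Fin n) A :=
  fun i => MvPolynomial.map (algebraMap R A) (v i)

theorem mapVec_add {k : ℕ} (v w : Fin k → P₀) : mapVec A (v + w) = mapVec A v + mapVec A w :=
  funext fun i => map_add _ _ _

theorem mapVec_zero {k : ℕ} : mapVec A (0 : Fin k → P₀) = 0 := funext fun _ => map_zero _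

theorem mapVec_smul {k : ℕ} (p : P₀) (v : Fin k → P₀) :
    mapVec A (p • v) = MvPolynomial.map (algebraMap R A) p • mapVec A v :=
  funext fun i => map_mul _ _ _

theorem mapVec_single {k : ℕ} (i : Fin k) :
    mapVec A (Pi.single i (1 : P₀)) = Pi.single i (1 : P) := by
  funext j
  by_cases h : j = i
  · subst h; simp [mapVec]
  · simp [mapVec, h]

/-- Base change of free modules over polynomial rings. -/
noncomputable def vecEquiv (R A : Type u) [CommRing R] [CommRing A] [Algebra R A] (n k : ℕ) :
    A ⊗[R] (Fin k → MvPolynomial (Fin n) R) ≃ₗ[A] (Fin k → MvPolynomial (Fin n) A) :=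
  (TensorProduct.piRight R A A fun _ => MvPolynomial (Fin n) R).trans
    (LinearEquiv.piCongrRight fun _ => (MvPolynomial.algebraTensorAlgEquiv R A).toLinearEquiv)

theorem vecEquiv_tmul {k : ℕ} (a : A) (v : Fin k → P₀) :
    vecEquiv R A n k (a ⊗ₜ v) = a • mapVec A v := by
  funext i
  simp [vecEquiv, mapVec]

/-- The submodule generated by the image of a submodule. -/
noncomputable def mapSub (A : Type u) [CommRing A] [Algebra R A] {k : ℕ}
    (N : Submodule P₀ (Fin k → P₀)) : Submodule (MvPolynomial (Fin n) A) (Fin k → MvPolynomial (Fin n) A) :=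
  Submodule.span _ (mapVec A '' (N : Set (Fin k → P₀)))

theorem mapSub_span {k : ℕ} (S : Set (Fin k → P₀)) :
    mapSub A (Submodule.span P₀ S) = Submodule.span P (mapVec A '' S) := by
  refine le_antisymm (Submodule.span_le.2 ?_) (Submodule.span_mono (Set.image_mono Submodule.subset_span))
  rintro _ ⟨v, hv, rfl⟩
  induction hv using Submodule.span_induction with
  | mem x hx => exact Submodule.subset_span ⟨x, hx, rfl⟩
  | zero => rw [mapVec_zero]; exact zero_mem _
  | add x y _ _ hx hy => rw [mapVec_add]; exact add_mem hx hy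
  | smul c x _ hx => rw [mapVec_smul]; exact Submodule.smul_mem _ _ hx

theorem mapSub_fg {k : ℕ} {N : Submodule P₀ (Fin k → P₀)} (hN : N.FG) : (mapSub A N).FG := by
  classical
  obtain ⟨s, rfl⟩ := hN
  rw [mapSub_span]
  exact ⟨s.image (mapVec A), by simp⟩

/-- The tensor description of `mapSub`. -/
theorem mem_mapSub_iff {k : ℕ} (N : Submodule P₀ (Fin k → P₀)) (z : Fin k → P) :
    z ∈ mapSub A N ↔
      ∃ t : A ⊗[R] N, vecEquiv R A n k ((N.subtype.restrictScalars R).baseChange A t) = z := by
  let Ψ : A ⊗[R] N →ₗ[A] (Fin k → P) :=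
    (vecEquiv R A n k).toLinearMap.comp ((N.subtype.restrictScalars R).baseChange A)
  show z ∈ mapSub A N ↔ z ∈ LinearMap.range Ψ
  have hsmul : ∀ (c : P) (t : A ⊗[R] N), c • Ψ t ∈ LinearMap.range Ψ := by
    intro c t
    induction t using TensorProduct.induction_on with
    | zero => simp
    | add a b ha hb => rw [map_add, smul_add]; exact add_mem ha hb
    | tmul a v =>
      induction c using MvPolynomial.induction_on' with
      | add p q hp hq => rw [add_smul]; exact add_mem hp hq
      | monomial d b =>
        refine ⟨(b * a) ⊗ₜ ((MvPolynomial.monomial d (1 : R) : P₀) • v), ?_⟩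
        simp only [Ψ, LinearMap.comp_apply, LinearMap.baseChange_tmul, LinearEquiv.coe_coe,
          vecEquiv_tmul, LinearMap.restrictScalars_apply, Submodule.subtype_apply,
          SetLike.val_smul, mapVec_smul]
        rw [show (MvPolynomial.monomial d b : P) = b • MvPolynomial.map (algebraMap R A)
          (MvPolynomial.monomial d (1 : R)) from by simp [MvPolynomial.smul_monomial]]
        rw [smul_assoc, smul_comm _ a, mul_smul]
  constructor
  · intro hz
    induction hz using Submodule.span_induction with
    | mem x hx =>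
      obtain ⟨v, hv, rfl⟩ := hx
      exact ⟨1 ⊗ₜ ⟨v, hv⟩, by simp [Ψ, vecEquiv_tmul]⟩
    | zero => exact zero_mem _
    | add x y _ _ hx hy => exact add_mem hx hy
    | smul c x _ hx =>
      obtain ⟨t, rfl⟩ := hx
      exact hsmul c t
  · rintro ⟨t, rfl⟩
    induction t using TensorProduct.induction_on with
    | zero => simp
    | add a b ha hb => rw [map_add]; exact add_mem ha hb
    | tmul a v =>
      simp only [Ψ, LinearMap.comp_apply, LinearMap.baseChange_tmul, LinearEquiv.coe_coe, vecEquiv_tmul]
      exact Submodule.smul_of_tower_mem _ a (Submodule.subset_span ⟨_, v.2, rfl⟩)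

/-- Base change of the quotient of a free module. -/
theorem nonempty_quotient_baseChange {k : ℕ} (N : Submodule P₀ (Fin k → P₀)) :
    Nonempty (A ⊗[R] ((Fin k → P₀) ⧸ N) ≃ₗ[A] (Fin k → P) ⧸ mapSub A N) := by
  let Φ : (Fin k → P) →ₗ[A] A ⊗[R] ((Fin k → P₀) ⧸ N) :=
    ((N.mkQ.restrictScalars R).baseChange A).comp (vecEquiv R A n k).symm.toLinearMap
  have hsurj : Function.Surjective Φ :=
    (LinearMap.lTensor_surjective A (g := N.mkQ.restrictScalars R) N.mkQ_surjective).comp
      (vecEquiv R A n k).symm.surjective
  have hex : Function.Exact ((N.subtype.restrictScalars R).lTensor A) ((N.mkQ.restrictScalars R).lTensor A) :=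
    _root_.lTensor_exact A (f := N.subtype.restrictScalars R) (g := N.mkQ.restrictScalars R)
      (LinearMap.exact_subtype_mkQ N) N.mkQ_surjective
  have hker : LinearMap.ker Φ = (mapSub A N).restrictScalars A := by
    ext z
    rw [LinearMap.mem_ker, Submodule.restrictScalars_mem, mem_mapSub_iff]
    constructor
    · intro hz
      obtain ⟨t, ht⟩ := (hex _).1 hz
      refine ⟨t, ?_⟩
      apply (vecEquiv R A n k).symm.injective
      rw [LinearEquiv.symm_apply_apply]
      exact ht
    · rintro ⟨t, rfl⟩
      refine (hex _).2 ⟨t, ?_⟩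
      exact ((vecEquiv R A n k).symm_apply_apply _).symm
  exact ⟨((Submodule.quotEquivOfEq _ _ hker.symm).trans (Φ.quotKerEquivOfSurjective hsurj)).symm.trans
    (Submodule.Quotient.restrictScalarsEquiv A (mapSub A N))⟩

/-- Base change of a map of free modules. -/
noncomputable def mapHom (A : Type u) [CommRing A] [Algebra R A] {b m : ℕ}
    (g : (Fin b → P₀) →ₗ[P₀] (Fin m → P₀)) :
    (Fin b → MvPolynomial (Fin n) A) →ₗ[MvPolynomial (Fin n) A] (Fin m → MvPolynomial (Fin n) A) :=
  Fintype.linearCombination _ fun j => mapVec A (g (Pi.single j 1))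

theorem mapHom_mapVec {b m : ℕ} (g : (Fin b → P₀) →ₗ[P₀] (Fin m → P₀)) (v : Fin b → P₀) :
    mapHom A g (mapVec A v) = mapVec A (g v) := by
  conv_rhs => rw [pi_eq_sum_univ' v]
  rw [mapHom, Fintype.linearCombination_apply]
  funext i
  simp [mapVec, map_sum, Finset.sum_apply]

/-- Kernels commute with base change when the cokernel is flat. -/
theorem ker_mapHom {b m : ℕ} (g : (Fin b → P₀) →ₗ[P₀] (Fin m → P₀))
    [Module.Flat R ((Fin m → P₀) ⧸ LinearMap.range g)] :
    LinearMap.ker (mapHom A g) = mapSub A (LinearMap.ker g) := by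
  let g' := g.rangeRestrict.restrictScalars R
  let i := (LinearMap.range g).subtype.restrictScalars R
  let j := (LinearMap.ker g).subtype.restrictScalars R
  have hjg : Function.Exact j g' := fun x => by
    constructor
    · intro hx
      exact ⟨⟨x, congrArg Subtype.val hx⟩, rfl⟩
    · rintro ⟨y, rfl⟩
      exact Subtype.ext y.2
  have hg' : Function.Surjective g' := g.surjective_rangeRestrict
  have hinj : Function.Injective (i.lTensor A) :=
    lTensor_subtype_injective_of_flat_quotient i (LinearMap.range g).injective_subtype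
      ((LinearMap.range g).mkQ.restrictScalars R) (LinearMap.exact_subtype_mkQ _)
      (LinearMap.range g).mkQ_surjective A
  have hcomm : ∀ t, mapHom A g (vecEquiv R A n b t) =
      vecEquiv R A n m (i.lTensor A (g'.lTensor A t)) := by
    intro t
    induction t using TensorProduct.induction_on with
    | zero => simp
    | add x y hx hy => simp only [map_add, hx, hy]
    | tmul a v =>
      simp [vecEquiv_tmul, LinearMap.map_smul_of_tower, mapHom_mapVec, i, g']
  ext z
  rw [LinearMap.mem_ker, mem_mapSub_iff]
  obtain ⟨t, rfl⟩ := (vecEquiv R A n b).surjective z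
  rw [hcomm]
  constructor
  · intro h
    have h' : g'.lTensor A t = 0 := hinj (by
      rw [map_zero]
      exact (vecEquiv R A n m).injective (h.trans (map_zero _).symm))
    obtain ⟨s, hs⟩ := (_root_.lTensor_exact A hjg hg' t).1 h'
    exact ⟨s, congrArg _ hs⟩
  · rintro ⟨s, hs⟩
    have ht : t = j.lTensor A s := ((vecEquiv R A n b).injective hs).symm
    rw [ht, ← LinearMap.comp_apply (g'.lTensor A), ← LinearMap.lTensor_comp,
      hjg.linearMap_comp_eq_zero, LinearMap.lTensor_zero, LinearMap.zero_apply, map_zero, map_zero]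

end MapVec

variable {A : Type u} [CommRing A]

/-- A submodule with a Noetherian model having flat quotient is finitely presented. -/
theorem finitePresentation_of_model {B : Type u} [CommRing B] [IsNoetherianRing B] [Algebra B A]
    {n m b : ℕ} (K : Submodule (MvPolynomial (Fin n) A) (Fin m → MvPolynomial (Fin n) A))
    (w : Fin b → Fin m → MvPolynomial (Fin n) B)
    (hK : Submodule.span _ (Set.range fun j => mapVec A (w j)) = K)
    (hflat : Module.Flat B ((Fin m → MvPolynomial (Fin n) B) ⧸
      Submodule.span (MvPolynomial (Fin n) B) (Set.range w))) :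
    Module.FinitePresentation (MvPolynomial (Fin n) A) K := by
  let g : (Fin b → MvPolynomial (Fin n) B) →ₗ[MvPolynomial (Fin n) B] (Fin m → MvPolynomial (Fin n) B) :=
    Fintype.linearCombination _ w
  have hg : LinearMap.range g = Submodule.span _ (Set.range w) := Fintype.range_linearCombination _ _
  have : Module.Flat B ((Fin m → MvPolynomial (Fin n) B) ⧸ LinearMap.range g) := by
    rw [hg]; exact hflat
  have hfg : (LinearMap.ker (mapHom A g)).FG := by
    rw [ker_mapHom]
    exact mapSub_fg (IsNoetherian.noetherian _)
  have hrange : LinearMap.range (mapHom A g) = K := by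
    rw [mapHom, Fintype.range_linearCombination, ← hK]
    congr 1
    refine congrArg Set.range (funext fun j => ?_)
    simp [g, Fintype.linearCombination_apply_single]
  have := Module.finitePresentation_of_surjective (mapHom A g).rangeRestrict
    (mapHom A g).surjective_rangeRestrict (by rw [LinearMap.ker_rangeRestrict]; exact hfg)
  exact Module.FinitePresentation.of_equiv (LinearEquiv.ofEq _ _ hrange)

/-- The core case: submodules of free modules over polynomial rings. -/
theorem finitePresentation_of_flat_quotient {n m : ℕ}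
    (K : Submodule (MvPolynomial (Fin n) A) (Fin m → MvPolynomial (Fin n) A)) (hK : K.FG)
    [Module.Flat A ((Fin m → MvPolynomial (Fin n) A) ⧸ K)] :
    Module.FinitePresentation (MvPolynomial (Fin n) A) K := by
  classical
  obtain ⟨b, w, hw⟩ := Submodule.fg_iff_exists_fin_generating_family.1 hK
  let C : Set A := ⋃ j : Fin b, ⋃ i : Fin m, ((w j i).coeffs : Set A)
  have hC : C.Finite := Set.finite_iUnion fun j => Set.finite_iUnion fun i => (w j i).coeffs.finite_toSet
  let R₀ : Subalgebra ℤ A := Algebra.adjoin ℤ C
  haveI : IsNoetherianRing R₀ := isNoetherianRing_of_fg (Subalgebra.fg_def.2 ⟨C, hC, rfl⟩)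
  have hlift : ∀ j i, ∃ p : MvPolynomial (Fin n) R₀, MvPolynomial.map (algebraMap R₀ A) p = w j i := by
    intro j i
    have h : w j i ∈ Set.range (MvPolynomial.map (σ := Fin n) (algebraMap R₀ A)) := by
      rw [MvPolynomial.mem_range_map_iff_coeffs_subset]
      exact fun c hc => ⟨⟨c, Algebra.subset_adjoin (Set.mem_iUnion.2 ⟨j, Set.mem_iUnion.2 ⟨i, hc⟩⟩)⟩, rfl⟩
    obtain ⟨p, hp⟩ := h
    exact ⟨p, hp⟩
  choose w₀ hw₀ using hlift
  have hw₀' : ∀ j, mapVec A (w₀ j) = w j := fun j => funext (hw₀ j)
  let N₀ := Submodule.span (MvPolynomial (Fin n) R₀) (Set.range w₀)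
  have hN₀ : mapSub A N₀ = K := by
    rw [mapSub_span, ← hw, ← Set.range_comp]
    congr 1
    exact congrArg Set.range (funext hw₀')
  obtain ⟨e₀⟩ := nonempty_quotient_baseChange (A := A) N₀
  haveI : Module.Flat A (A ⊗[R₀] ((Fin m → MvPolynomial (Fin n) R₀) ⧸ N₀)) :=
    Module.Flat.of_linearEquiv (e₀.trans ((Submodule.quotEquivOfEq _ _ hN₀).restrictScalars A))
  obtain ⟨B, hB, hflat⟩ := FlatH4.exists_subalgebra_flat R₀ A (MvPolynomial (Fin n) R₀)
    ((Fin m → MvPolynomial (Fin n) R₀) ⧸ N₀)
  haveI := hflat B le_rfl hB
  haveI : IsNoetherianRing B := isNoetherianRing_of_fg hB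
  obtain ⟨e₁⟩ := nonempty_quotient_baseChange (A := B) N₀
  refine finitePresentation_of_model (B := B) K (fun j => mapVec B (w₀ j)) ?_ ?_
  · rw [← hw]
    congr 1
    refine congrArg Set.range (funext fun j => ?_)
    rw [← hw₀' j]
    funext i
    simp only [mapVec, MvPolynomial.map_map]
    congr 1
  · haveI : Module.Flat B (B ⊗[R₀] ((Fin m → MvPolynomial (Fin n) R₀) ⧸ N₀)) := hflat B le_rfl hB
    have hsub : Submodule.span (MvPolynomial (Fin n) B) (Set.range fun j => mapVec B (w₀ j)) =
        mapSub B N₀ := by
      rw [mapSub_span, ← Set.range_comp]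
      rfl
    rw [hsub]
    exact Module.Flat.of_linearEquiv e₁.symm

/-- The kernel of a surjection of finitely presented modules onto a flat one is finitely
presented. -/
theorem finitePresentation_ker {B F M : Type u} [CommRing B] [Algebra A B]
    [Algebra.FinitePresentation A B] [AddCommGroup F] [Module B F] [Module.FinitePresentation B F]
    [AddCommGroup M] [Module B M] [Module A M] [IsScalarTower A B M] [Module.FinitePresentation B M]
    [Module.Flat A M] (π : F →ₗ[B] M) (hπ : Function.Surjective π) :
    Module.FinitePresentation B (LinearMap.ker π) := by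
  obtain ⟨n, φ, hφ, hkerφ⟩ := Algebra.FinitePresentation.out (R := A) (A := B)
  let P := MvPolynomial (Fin n) A
  letI : Algebra P B := φ.toRingHom.toAlgebra
  letI : Module P F := Module.compHom F φ.toRingHom
  letI : Module P M := Module.compHom M φ.toRingHom
  haveI : IsScalarTower P B F := IsScalarTower.of_algebraMap_smul fun _ _ => rfl
  haveI : IsScalarTower P B M := IsScalarTower.of_algebraMap_smul fun _ _ => rfl
  haveI : IsScalarTower A P M := IsScalarTower.of_algebraMap_smul fun r x => by
    show φ (algebraMap A P r) • x = r • x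
    rw [AlgHom.commutes, algebraMap_smul]
  haveI : Module.FinitePresentation P B :=
    Module.finitePresentation_of_surjective (Algebra.linearMap P B) hφ (by exact hkerφ)
  haveI : Module.FinitePresentation P F := Module.FinitePresentation.trans P F B
  haveI : Module.FinitePresentation P M := Module.FinitePresentation.trans P M B
  obtain ⟨m, ρ, hρ⟩ := Module.Finite.exists_fin' P F
  let σ := (π.restrictScalars P).comp ρ
  have hσ : Function.Surjective σ := hπ.comp hρ
  haveI : Module.Flat A ((Fin m → P) ⧸ LinearMap.ker σ) :=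
    Module.Flat.of_linearEquiv ((σ.quotKerEquivOfSurjective hσ).restrictScalars A)
  haveI : Module.FinitePresentation P (LinearMap.ker σ) :=
    finitePresentation_of_flat_quotient _ (Module.FinitePresentation.fg_ker σ hσ)
  let K : Submodule P F := LinearMap.ker (π.restrictScalars P)
  let ρ' : LinearMap.ker σ →ₗ[P] K := ρ.restrict fun x hx => hx
  have hρ' : Function.Surjective ρ' := fun y => by
    obtain ⟨x, hx⟩ := hρ y.1
    exact ⟨⟨x, by simp [σ, LinearMap.mem_ker, hx, show π y.1 = 0 from y.2]⟩, Subtype.ext hx⟩
  have hkerρ' : (LinearMap.ker ρ').FG := by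
    have hfg : (LinearMap.ker ρ).FG := Module.FinitePresentation.fg_ker ρ hρ
    haveI : Module.Finite P (LinearMap.ker ρ) := Module.Finite.iff_fg.2 hfg
    let i : LinearMap.ker ρ →ₗ[P] LinearMap.ker σ :=
      Submodule.inclusion fun x hx => by
        rw [LinearMap.mem_ker] at hx ⊢
        simp [σ, hx]
    have : LinearMap.ker ρ' = LinearMap.range i := by
      ext x
      constructor
      · intro hx
        exact ⟨⟨x.1, congrArg Subtype.val hx⟩, rfl⟩
      · rintro ⟨y, rfl⟩
        exact Subtype.ext y.2
    rw [this]
    exact Module.Finite.iff_fg.1 inferInstance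
  haveI hK : Module.FinitePresentation P K :=
    Module.finitePresentation_of_surjective ρ' hρ' hkerρ'
  haveI : Module.FinitePresentation P (LinearMap.ker π) :=
    Module.FinitePresentation.of_equiv (N := LinearMap.ker π)
      { toFun := fun (x : K) => (⟨x.1, x.2⟩ : LinearMap.ker π), invFun := fun (x : LinearMap.ker π) => (⟨x.1, x.2⟩ : K), map_add' := fun _ _ => rfl
        map_smul' := fun _ _ => rfl, left_inv := fun _ => rfl, right_inv := fun _ => rfl }
  haveI : Module.Finite B (LinearMap.ker π) := Module.Finite.of_restrictScalars_finite P B _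
  obtain ⟨k, τ, hτ⟩ := Module.Finite.exists_fin' B (LinearMap.ker π)
  refine Module.finitePresentation_of_surjective τ hτ ?_
  have hfg : (LinearMap.ker (τ.restrictScalars P)).FG :=
    Module.FinitePresentation.fg_ker _ hτ
  rw [LinearMap.ker_restrictScalars] at hfg
  exact hfg.of_restrictScalars P

end Groth.Agent.FlatSyz
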