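import Groth.Agent.Lib.FlatSyz.ProjDim
import Mathlib.Algebra.Category.ModuleCat.Monoidal.Basic
import Mathlib.CategoryTheory.Monoidal.Tor
import Mathlib.CategoryTheory.Monoidal.Preadditive
import Mathlib.CategoryTheory.Abelian.LeftDerived
import Mathlib.Algebra.Category.ModuleCat.Abelian
import Mathlib.Algebra.Category.ModuleCat.EnoughInjectives

/-!
# Tor dimension of finitely presented modules
-/

universe u

open CategoryTheory CategoryTheory.Limits MonoidalCategory TensorProduct

namespace Groth.Agent.FlatSyz

variable {B : Type u} [CommRing B]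

section Snake

variable {K F M L P N : Type u} [AddCommGroup K] [Module B K] [AddCommGroup F] [Module B F]
  [AddCommGroup M] [Module B M] [AddCommGroup L] [Module B L] [AddCommGroup P] [Module B P]
  [AddCommGroup N] [Module B N]

/-- Both one-sided presentations detect the same first Tor. -/
theorem lTensor_injective_iff_rTensor_injective [Module.Flat B F] [Module.Flat B P]
    (i : K →ₗ[B] F) (hi : Function.Injective i) (p : F →ₗ[B] M) (hip : Function.Exact i p)
    (hp : Function.Surjective p) (j : L →ₗ[B] P) (hj : Function.Injective j) (q : P →ₗ[B] N)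
    (hjq : Function.Exact j q) (hq : Function.Surjective q) :
    Function.Injective (j.lTensor M) ↔ Function.Injective (i.rTensor N) := by
  have hiP := Module.Flat.rTensor_preserves_injective_linearMap (M := P) i hi
  have hjF := Module.Flat.lTensor_preserves_injective_linearMap (M := F) j hj
  constructor
  · intro h
    rw [injective_iff_map_eq_zero]
    intro z hz
    obtain ⟨w, rfl⟩ := LinearMap.lTensor_surjective K hq z
    have h1 : q.lTensor F (i.rTensor P w) = 0 := by
      rw [← hz, ← LinearMap.comp_apply, LinearMap.lTensor_comp_rTensor, ← LinearMap.rTensor_comp_lTensor,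
        LinearMap.comp_apply]
    obtain ⟨u, hu⟩ := (lTensor_exact F hjq hq _).1 h1
    have h2 : p.rTensor L u = 0 := by
      apply h
      rw [map_zero, ← LinearMap.comp_apply, LinearMap.lTensor_comp_rTensor,
        ← LinearMap.rTensor_comp_lTensor, LinearMap.comp_apply, hu, ← LinearMap.comp_apply,
        ← LinearMap.rTensor_comp, hip.linearMap_comp_eq_zero, LinearMap.rTensor_zero, LinearMap.zero_apply]
    obtain ⟨v, rfl⟩ := (rTensor_exact L hip hp _).1 h2
    have h3 : i.rTensor P (w - j.lTensor K v) = 0 := by
      rw [map_sub, ← hu, ← LinearMap.comp_apply (i.rTensor _), LinearMap.rTensor_comp_lTensor,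
        ← LinearMap.lTensor_comp_rTensor, LinearMap.comp_apply, sub_self]
    have h4 := hiP (h3.trans (map_zero _).symm)
    rw [sub_eq_zero] at h4
    rw [h4, ← LinearMap.comp_apply, ← LinearMap.lTensor_comp, hjq.linearMap_comp_eq_zero,
      LinearMap.lTensor_zero, LinearMap.zero_apply]
  · intro h
    rw [injective_iff_map_eq_zero]
    intro z hz
    obtain ⟨u, rfl⟩ := LinearMap.rTensor_surjective L hp z
    have h1 : p.rTensor P (j.lTensor F u) = 0 := by
      rw [← hz, ← LinearMap.comp_apply, LinearMap.rTensor_comp_lTensor, ← LinearMap.lTensor_comp_rTensor,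
        LinearMap.comp_apply]
    obtain ⟨w, hw⟩ := (rTensor_exact P hip hp _).1 h1
    have h2 : q.lTensor K w = 0 := by
      apply h
      rw [map_zero, ← LinearMap.comp_apply, LinearMap.rTensor_comp_lTensor,
        ← LinearMap.lTensor_comp_rTensor, LinearMap.comp_apply, hw, ← LinearMap.comp_apply,
        ← LinearMap.lTensor_comp, hjq.linearMap_comp_eq_zero, LinearMap.lTensor_zero, LinearMap.zero_apply]
    obtain ⟨v, rfl⟩ := (lTensor_exact K hjq hq _).1 h2
    have h3 : j.lTensor F (u - i.rTensor L v) = 0 := by
      rw [map_sub, ← hw, ← LinearMap.comp_apply (j.lTensor _), LinearMap.lTensor_comp_rTensor,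
        ← LinearMap.rTensor_comp_lTensor, LinearMap.comp_apply, sub_self]
    have h4 := hjF (h3.trans (map_zero _).symm)
    rw [sub_eq_zero] at h4
    rw [h4, ← LinearMap.comp_apply, ← LinearMap.rTensor_comp, hip.linearMap_comp_eq_zero,
      LinearMap.rTensor_zero, LinearMap.zero_apply]

omit [AddCommGroup M] [Module B M] [AddCommGroup N] [Module B N] in
/-- Two ways to embed `K ⊗ L` into `F ⊗ P`. -/
theorem rTensor_injective_iff_lTensor_injective [Module.Flat B F] [Module.Flat B P]
    (i : K →ₗ[B] F) (hi : Function.Injective i) (j : L →ₗ[B] P) (hj : Function.Injective j) :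
    Function.Injective (i.rTensor L) ↔ Function.Injective (j.lTensor K) := by
  have hiP := Module.Flat.rTensor_preserves_injective_linearMap (M := P) i hi
  have hjF := Module.Flat.lTensor_preserves_injective_linearMap (M := F) j hj
  have key : ∀ z, j.lTensor F (i.rTensor L z) = i.rTensor P (j.lTensor K z) := fun z => by
    rw [← LinearMap.comp_apply, LinearMap.lTensor_comp_rTensor, ← LinearMap.rTensor_comp_lTensor,
      LinearMap.comp_apply]
  constructor
  · intro h x y hxy
    apply h
    apply hjF
    rw [key, key, hxy]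
  · intro h x y hxy
    apply h
    apply hiP
    rw [← key, ← key, hxy]

end Snake

section Tor

variable {M : Type u} [AddCommGroup M] [Module B M] {N : ModuleCat.{u} B}

/-- The differential of a resolution as a linear map. -/
abbrev dLin (Pr : ProjectiveResolution N) (i : ℕ) : Pr.complex.X (i + 1) →ₗ[B] Pr.complex.X i :=
  (Pr.complex.d (i + 1) i).hom

theorem dLin_exact (Pr : ProjectiveResolution N) (i : ℕ) :
    Function.Exact (dLin Pr (i + 1)) (dLin Pr i) :=
  (ShortComplex.ShortExact.moduleCat_exact_iff_function_exact _).1 (Pr.exact_succ i)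

theorem flat_X (Pr : ProjectiveResolution N) (i : ℕ) : Module.Flat B (Pr.complex.X i) :=
  have : Module.Projective B (Pr.complex.X i) :=
    (IsProjective.iff_projective (R := B) (Pr.complex.X i)).2 (Pr.projective i)
  inferInstance

/-- Higher Tor vanishes iff tensoring the boundaries stays injective. -/
theorem isZero_tor_succ_iff (Pr : ProjectiveResolution N) (i : ℕ) :
    IsZero (((Tor (ModuleCat.{u} B) (i + 1)).obj (ModuleCat.of B M)).obj N) ↔
      Function.Injective ((LinearMap.range (dLin Pr i)).subtype.lTensor M) := by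
  refine (Iso.isZero_iff (Pr.isoLeftDerivedObj ((tensoringLeft (ModuleCat.{u} B)).obj (ModuleCat.of B M)) (i + 1))).trans ?_
  change IsZero (HomologicalComplex.homology _ (i + 1)) ↔ _
  rw [← HomologicalComplex.exactAt_iff_isZero_homology,
    HomologicalComplex.exactAt_iff' _ (i + 2) (i + 1) i (by simp) (by simp),
    ShortComplex.moduleCat_exact_iff]
  let d₁ := dLin Pr i
  let d₂ := dLin Pr (i + 1)
  let e := d₁.rangeRestrict
  have he : Function.Surjective e := d₁.surjective_rangeRestrict
  have hex : Function.Exact d₂ e := fun x =>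
    ⟨fun hx => (dLin_exact Pr i x).1 (congrArg Subtype.val hx),
      fun hx => Subtype.ext ((dLin_exact Pr i x).2 hx)⟩
  constructor
  · intro h
    rw [injective_iff_map_eq_zero]
    intro y hy
    obtain ⟨z, rfl⟩ := LinearMap.lTensor_surjective M he y
    have hz : d₁.lTensor M z = 0 := by
      rw [← hy, ← LinearMap.comp_apply, ← LinearMap.lTensor_comp]
      rfl
    obtain ⟨w, hw⟩ := h z hz
    exact (lTensor_exact M hex he z).2 ⟨w, hw⟩
  · intro h
    have key : ∀ z : M ⊗[B] Pr.complex.X (i + 1), d₁.lTensor M z = 0 →
        z ∈ Set.range (d₂.lTensor M) := by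
      intro z hz
      refine (lTensor_exact M hex he z).1 (h ?_)
      rw [map_zero, ← LinearMap.comp_apply, ← LinearMap.lTensor_comp]
      exact hz
    exact fun z hz => key z hz

/-- Dimension shifting in the first variable. -/
theorem isZero_tor_shift {K F : Type u} [AddCommGroup K] [Module B K] [AddCommGroup F] [Module B F]
    [Module.Flat B F] (i : K →ₗ[B] F) (hi : Function.Injective i) (p : F →ₗ[B] M)
    (hip : Function.Exact i p) (hp : Function.Surjective p) (n : ℕ) :
    IsZero (((Tor (ModuleCat.{u} B) (n + 2)).obj (ModuleCat.of B M)).obj N) ↔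
      IsZero (((Tor (ModuleCat.{u} B) (n + 1)).obj (ModuleCat.of B K)).obj N) := by
  let Pr := ProjectiveResolution.of N
  haveI := flat_X Pr n
  haveI := flat_X Pr (n + 1)
  let e := (dLin Pr n).rangeRestrict
  have hex : Function.Exact (LinearMap.range (dLin Pr (n + 1))).subtype e := fun x =>
    ⟨fun hx => ⟨⟨x, (dLin_exact Pr n x).1 (congrArg Subtype.val hx)⟩, rfl⟩,
      fun ⟨y, hy⟩ => Subtype.ext ((dLin_exact Pr n x).2 (hy ▸ y.2))⟩
  rw [isZero_tor_succ_iff Pr (n + 1), isZero_tor_succ_iff Pr n,
    lTensor_injective_iff_rTensor_injective i hi p hip hp _ (Submodule.injective_subtype _) e hex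
      (LinearMap.surjective_rangeRestrict _),
    rTensor_injective_iff_lTensor_injective i hi (LinearMap.range (dLin Pr n)).subtype
      (Submodule.injective_subtype _)]

/-- A module is flat iff its first Tor vanishes identically. -/
theorem flat_iff_isZero_tor_one :
    Module.Flat B M ↔
      ∀ N : ModuleCat.{u} B, IsZero (((Tor (ModuleCat.{u} B) 1).obj (ModuleCat.of B M)).obj N) := by
  constructor
  · intro _ N
    rw [isZero_tor_succ_iff (ProjectiveResolution.of N) 0]
    exact Module.Flat.lTensor_preserves_injective_linearMap _ (Submodule.injective_subtype _)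
  · intro h
    refine Module.Flat.iff_lTensor_injective'.2 fun I => ?_
    let N : ModuleCat.{u} B := ModuleCat.of B (B ⧸ I)
    let Pr := ProjectiveResolution.of N
    haveI := flat_X Pr 0
    let q : Pr.complex.X 0 →ₗ[B] (B ⧸ I) := (Pr.π.f 0).hom
    have hq : Function.Surjective q := (ModuleCat.epi_iff_surjective (Pr.π.f 0)).1 inferInstance
    have hex : Function.Exact (LinearMap.range (dLin Pr 0)).subtype q := fun x =>
      ⟨fun hx => ⟨⟨x, (ShortComplex.moduleCat_exact_iff _).1 Pr.exact₀ x hx⟩, rfl⟩,
        fun ⟨⟨_, z, hz⟩, hy⟩ => by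
          subst hy; subst hz
          exact LinearMap.congr_fun (congrArg ModuleCat.Hom.hom Pr.complex_d_comp_π_f_zero) z⟩
    obtain ⟨F₀, _, _, _, p, hp⟩ : ∃ (F₀ : Type u) (_ : AddCommGroup F₀) (_ : Module B F₀)
        (_ : Module.Flat B F₀) (p : F₀ →ₗ[B] M), Function.Surjective p :=
      ⟨M →₀ B, inferInstance, inferInstance, inferInstance, Finsupp.linearCombination B id,
        Finsupp.linearCombination_id_surjective B M⟩
    have h1 := (lTensor_injective_iff_rTensor_injective _ (LinearMap.ker p).injective_subtype p
      (LinearMap.exact_subtype_ker_map p) hp _ (Submodule.injective_subtype _) q hex hq).1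
      ((isZero_tor_succ_iff Pr 0).1 (h N))
    exact (lTensor_injective_iff_rTensor_injective _ (LinearMap.ker p).injective_subtype p
      (LinearMap.exact_subtype_ker_map p) hp _ (Submodule.injective_subtype _) I.mkQ
      (LinearMap.exact_subtype_mkQ I) I.mkQ_surjective).2 h1

/-- All Tors of the zero module vanish. -/
theorem isZero_tor_of_subsingleton [Subsingleton M] (i : ℕ) (N : ModuleCat.{u} B) :
    IsZero (((Tor (ModuleCat.{u} B) i).obj (ModuleCat.of B M)).obj N) := by
  let F := (tensoringLeft (ModuleCat.{u} B)).obj (ModuleCat.of B M)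
  refine IsZero.of_iso ?_ ((ProjectiveResolution.of N).isoLeftDerivedObj F i)
  change IsZero (HomologicalComplex.homology _ i)
  rw [← HomologicalComplex.exactAt_iff_isZero_homology]
  apply ShortComplex.exact_of_isZero_X₂
  have : Subsingleton (M ⊗[B] ((ProjectiveResolution.of N).complex.X i)) := inferInstance
  exact @ModuleCat.isZero_of_subsingleton _ _ _ this

/-- The zeroth Tor detects the zero module. -/
theorem subsingleton_of_isZero_tor_zero
    (h : IsZero (((Tor (ModuleCat.{u} B) 0).obj (ModuleCat.of B M)).obj (ModuleCat.of B B))) :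
    Subsingleton M := by
  let Pr := ProjectiveResolution.of (ModuleCat.of B B)
  replace h := (Iso.isZero_iff (Pr.isoLeftDerivedObj ((tensoringLeft (ModuleCat.{u} B)).obj (ModuleCat.of B M)) 0)).1 h
  change IsZero (HomologicalComplex.homology _ 0) at h
  rw [← HomologicalComplex.exactAt_iff_isZero_homology,
    HomologicalComplex.exactAt_iff' _ 1 0 0 (by simp) (by simp),
    ShortComplex.moduleCat_exact_iff] at h
  let q : Pr.complex.X 0 →ₗ[B] B := (Pr.π.f 0).hom
  have hq : Function.Surjective q := (ModuleCat.epi_iff_surjective (Pr.π.f 0)).1 inferInstance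
  have hd00 : ((((tensoringLeft (ModuleCat.{u} B)).obj (ModuleCat.of B M)).mapHomologicalComplex
      (ComplexShape.down ℕ)).obj Pr.complex |>.sc' 1 0 0).g = 0 :=
    ((((tensoringLeft (ModuleCat.{u} B)).obj (ModuleCat.of B M)).mapHomologicalComplex (ComplexShape.down ℕ)).obj Pr.complex).shape 0 0 (Nat.succ_ne_zero 0)
  have hd : Function.Surjective ((dLin Pr 0).lTensor M) := fun z => by
    obtain ⟨w, hw⟩ := h z (by rw [hd00]; rfl)
    exact ⟨w, hw⟩
  have hqd : q ∘ₗ dLin Pr 0 = 0 := congrArg ModuleCat.Hom.hom Pr.complex_d_comp_π_f_zero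
  have hz : ∀ z : M ⊗[B] B, z = 0 := fun z => by
    obtain ⟨w, rfl⟩ := LinearMap.lTensor_surjective M hq z
    obtain ⟨v, rfl⟩ := hd w
    rw [← LinearMap.comp_apply, ← LinearMap.lTensor_comp, hqd, LinearMap.lTensor_zero, LinearMap.zero_apply]
  exact (TensorProduct.rid B M).symm.toEquiv.subsingleton_congr.2 (subsingleton_of_forall_eq 0 hz)

end Tor

variable {A : Type u} [CommRing A] [Algebra A B] [Algebra.FinitePresentation A B] [Module.Flat A B]

/-- Projective dimension at most `n` is vanishing of `Tor_{n+1}`. -/
theorem hasProjectiveDimensionLE_iff_tor (n : ℕ) :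
    ∀ (M : Type u) [AddCommGroup M] [Module A M] [Module B M] [IsScalarTower A B M]
      [Module.FinitePresentation B M] [Module.Flat A M],
      HasProjectiveDimensionLE (ModuleCat.of B M) n ↔
        ∀ N : ModuleCat.{u} B,
          IsZero (((Tor (ModuleCat.{u} B) (n + 1)).obj (ModuleCat.of B M)).obj N) := by
  induction n with
  | zero =>
    intro M _ _ _ _ _ _
    rw [hasProjectiveDimensionLE_zero_iff_flat, flat_iff_isZero_tor_one]
  | succ n ih =>
    classical
    intro M _ _ _ _ _ _
    obtain ⟨k, π, hπ⟩ := Module.Finite.exists_fin' B M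
    haveI := finitePresentation_ker (A := A) π hπ
    haveI : Module.Flat A (Fin k → B) :=
      haveI : Module.Flat A (Π₀ _ : Fin k, B) := Module.Flat.dfinsupp_iff.2 fun _ => inferInstance
      Module.Flat.of_linearEquiv
        ((Finsupp.linearEquivFunOnFinite A B (Fin k)).symm.trans (finsuppLequivDFinsupp A))
    haveI : Module.Flat A (LinearMap.ker π) :=
      flat_of_exact ((LinearMap.ker π).subtype.restrictScalars A) (LinearMap.ker π).injective_subtype
        (π.restrictScalars A) (LinearMap.exact_subtype_ker_map π) hπ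
    rw [hasProjectiveDimensionLE_succ_iff _ (LinearMap.ker π).injective_subtype π
      (LinearMap.exact_subtype_ker_map π) hπ n, ih (LinearMap.ker π)]
    exact forall_congr' fun N => (isZero_tor_shift _ (LinearMap.ker π).injective_subtype π
      (LinearMap.exact_subtype_ker_map π) hπ n).symm

/-- Projective dimension at most `n` means all higher Tors vanish. -/
theorem hasProjectiveDimensionLE_iff_forall_tor (n : ℕ) (M : Type u) [AddCommGroup M] [Module A M]
    [Module B M] [IsScalarTower A B M] [Module.FinitePresentation B M] [Module.Flat A M] :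
    HasProjectiveDimensionLE (ModuleCat.of B M) n ↔ ∀ i, n < i → ∀ N : ModuleCat.{u} B,
      IsZero (((Tor (ModuleCat.{u} B) i).obj (ModuleCat.of B M)).obj N) := by
  refine ⟨fun h i hi => ?_, fun h => (hasProjectiveDimensionLE_iff_tor (A := A) n M).2 (h _ (by omega))⟩
  obtain ⟨j, rfl⟩ : ∃ j, i = j + 1 := ⟨i - 1, by omega⟩
  haveI := hasProjectiveDimensionLT_of_ge (ModuleCat.of B M) (n + 1) (j + 1) (by omega)
  exact (hasProjectiveDimensionLE_iff_tor (A := A) j M).1 this

end Groth.Agent.FlatSyz
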