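import Groth.Agent.Lib.FlatH4.FlatDescent
import Mathlib.LinearAlgebra.TensorProduct.Quotient
import Mathlib.RingTheory.Flat.Stability
import Mathlib.LinearAlgebra.Finsupp.LinearCombination

/-!
# Modules which are free modulo a nilpotent ideal
-/

universe u

namespace Groth.Agent.FlatSyz

open TensorProduct

variable {A : Type u} [CommRing A] {M : Type u} [AddCommGroup M] [Module A M] (J : Ideal A)

/-- The freeness ideal of a presentation whose relations have coefficients in a nilpotent ideal. -/
theorem freeness_ideal_of_presentation (hJ : IsNilpotent J) {ι L : Type u} [AddCommGroup L] [Module A L]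
    (c : Module.Basis ι A L) (q : L →ₗ[A] M) (hq : Function.Surjective q)
    (hk : ∀ k ∈ LinearMap.ker q, ∀ i, c.repr k i ∈ J) (A' : Type u) [CommRing A'] [Algebra A A'] :
      (Module.Flat A' (A' ⊗[A] M) →
        Ideal.map (algebraMap A A') (Ideal.span {a | ∃ k ∈ LinearMap.ker q, ∃ i, c.repr k i = a}) = ⊥) ∧
      (Ideal.map (algebraMap A A') (Ideal.span {a | ∃ k ∈ LinearMap.ker q, ∃ i, c.repr k i = a}) = ⊥ →
        Module.Free A' (A' ⊗[A] M)) := by
  classical
  haveI : Module.Free A L := Module.Free.of_basis c
  refine ⟨fun hflat => ?_, fun h0 => ?_⟩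
  · -- flatness forces the relations to vanish
    let ι' := (LinearMap.ker q).subtype.baseChange A'
    let qA := q.baseChange A'
    have hex : Function.Exact ι' qA := lTensor_exact A' (LinearMap.exact_subtype_ker_map q) hq
    have hsurj : Function.Surjective qA := LinearMap.lTensor_surjective A' hq
    let J' := J.map (algebraMap A A')
    have hmem : ∀ w, ι' w ∈ J' • (⊤ : Submodule A' (A' ⊗[A] L)) := by
      intro w
      induction w using TensorProduct.induction_on with
      | zero => simp
      | add a d ha hd => rw [map_add]; exact add_mem ha hd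
      | tmul a k =>
        show a ⊗ₜ[A] (k : L) ∈ _
        rw [← c.linearCombination_repr k.1, Finsupp.linearCombination_apply, Finsupp.sum, TensorProduct.tmul_sum]
        refine Submodule.sum_mem _ fun i _ => ?_
        rw [TensorProduct.tmul_smul, ← algebraMap_smul A' (c.repr k.1 i)]
        exact Submodule.smul_mem_smul (Ideal.mem_map_of_mem _ (hk _ k.2 i)) trivial
    obtain ⟨n, hn⟩ := hJ
    have hpow : ∀ m : ℕ, ∀ w, ι' w ∈ (J' ^ m • (⊤ : Submodule A' (A' ⊗[A] LinearMap.ker q))).map ι' := by
      intro m
      induction m with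
      | zero => exact fun w => ⟨w, by simp, rfl⟩
      | succ m ih =>
        intro w
        obtain ⟨t, ht, htw⟩ := ih w
        rw [← htw]
        clear htw
        refine Submodule.smul_induction_on ht (fun r hr z _ => ?_) (fun a d ha hd => ?_)
        · obtain ⟨t', ht', he⟩ := FlatH4.exists_mem_smul_of_flat ι' qA hex hsurj J' (hmem z)
            (hex.apply_apply_eq_zero z)
          refine ⟨r • t', ?_, by rw [map_smul, map_smul, he]⟩
          rw [pow_succ, Submodule.mul_smul]
          exact Submodule.smul_mem_smul hr ht'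
        · rw [map_add]; exact add_mem ha hd
    have hzero : ∀ w, ι' w = 0 := by
      intro w
      obtain ⟨t, ht, htw⟩ := hpow n w
      rw [← Ideal.map_pow, hn, Ideal.zero_eq_bot, Ideal.map_bot, Submodule.bot_smul] at ht
      rw [← htw, (Submodule.mem_bot A').1 ht, map_zero]
    rw [Ideal.map_span, Ideal.span_eq_bot]
    rintro _ ⟨a, ⟨k, hkq, i, rfl⟩, rfl⟩
    have h1 := congrArg ((c.coord i).baseChange A') (hzero (1 ⊗ₜ ⟨k, hkq⟩))
    have h2 := congrArg (TensorProduct.AlgebraTensorModule.rid A A' A') h1
    simpa [ι', Algebra.smul_def] using h2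
  · -- if the relations vanish, the presentation is an isomorphism
    let qA := q.baseChange A'
    have hinj : Function.Injective qA := by
      rw [injective_iff_map_eq_zero]
      intro z hz
      obtain ⟨w, rfl⟩ := (lTensor_exact A' (LinearMap.exact_subtype_ker_map q) hq z).1 hz
      clear hz
      induction w using TensorProduct.induction_on with
      | zero => simp
      | add a d ha hd => rw [map_add, ha, hd, add_zero]
      | tmul a k =>
        show a ⊗ₜ[A] (k : L) = 0
        rw [← c.linearCombination_repr k.1, Finsupp.linearCombination_apply, Finsupp.sum, TensorProduct.tmul_sum]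
        refine Finset.sum_eq_zero fun i _ => ?_
        rw [TensorProduct.tmul_smul, ← algebraMap_smul A' (c.repr k.1 i)]
        have hz : algebraMap A A' (c.repr k.1 i) = 0 := by
          rw [← Ideal.mem_bot, ← h0]
          exact Ideal.mem_map_of_mem _ (Ideal.subset_span ⟨k.1, k.2, i, rfl⟩)
        rw [hz, zero_smul]
    exact Module.Free.of_equiv (LinearEquiv.ofBijective qA ⟨hinj, LinearMap.lTensor_surjective A' hq⟩)


/-- The ideal cutting out the locus where a module free modulo a nilpotent ideal is flat. -/
theorem exists_freeness_ideal (hJ : IsNilpotent J)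
    (hfree : Module.Free (A ⧸ J) ((A ⧸ J) ⊗[A] M)) :
    ∃ R₀ : Ideal A, ∀ (A' : Type u) [CommRing A'] [Algebra A A'],
      (Module.Flat A' (A' ⊗[A] M) → Ideal.map (algebraMap A A') R₀ = ⊥) ∧
        (Ideal.map (algebraMap A A') R₀ = ⊥ → Module.Free A' (A' ⊗[A] M)) := by
  classical
  let ι := Module.Free.ChooseBasisIndex (A ⧸ J) ((A ⧸ J) ⊗[A] M)
  let b := Module.Free.chooseBasis (A ⧸ J) ((A ⧸ J) ⊗[A] M)
  have hlift : ∀ x : (A ⧸ J) ⊗[A] M, ∃ m : M, (1 : A ⧸ J) ⊗ₜ[A] m = x := by
    intro x
    induction x using TensorProduct.induction_on with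
    | zero => exact ⟨0, TensorProduct.tmul_zero _ _⟩
    | add a c ha hc =>
      obtain ⟨m, rfl⟩ := ha
      obtain ⟨n, rfl⟩ := hc
      exact ⟨m + n, TensorProduct.tmul_add _ _ _⟩
    | tmul r m =>
      obtain ⟨a, rfl⟩ := Ideal.Quotient.mk_surjective r
      refine ⟨a • m, ?_⟩
      rw [← TensorProduct.smul_tmul]
      congr 1
      simp [Algebra.smul_def]
  choose lift hlift using fun i => hlift (b i)
  let q : (ι →₀ A) →ₗ[A] M := Finsupp.linearCombination A lift
  have hsingle : ∀ k : ι →₀ A, (1 : A ⧸ J) ⊗ₜ[A] q k =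
      Finsupp.linearCombination (A ⧸ J) b (k.mapRange (Ideal.Quotient.mk J) (map_zero _)) := by
    intro k
    induction k using Finsupp.induction_linear with
    | zero => simp
    | add f g hf hg =>
      rw [map_add, TensorProduct.tmul_add, hf, hg,
        Finsupp.mapRange_add (f := Ideal.Quotient.mk J) (hf := map_zero _) (map_add _), map_add]
    | single i a =>
      rw [Finsupp.mapRange_single, Finsupp.linearCombination_single]
      simp only [q, Finsupp.linearCombination_single, ← hlift]
      rw [TensorProduct.smul_tmul', TensorProduct.tmul_smul, ← TensorProduct.smul_tmul']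
      congr 1
  -- surjectivity
  have hq : Function.Surjective q := by
    have h1 : ∀ x : M, ∃ k, x - q k ∈ J • (⊤ : Submodule A M) := by
      intro x
      obtain ⟨c, hc⟩ : ∃ c : ι →₀ A, c.mapRange (Ideal.Quotient.mk J) (map_zero _) =
          b.repr ((1 : A ⧸ J) ⊗ₜ[A] x) :=
        Finsupp.mapRange_surjective (Ideal.Quotient.mk J) (map_zero _) Ideal.Quotient.mk_surjective _
      refine ⟨c, ?_⟩
      have h0 : (1 : A ⧸ J) ⊗ₜ[A] (x - q c) = 0 := by
        rw [TensorProduct.tmul_sub, hsingle, hc, b.linearCombination_repr, sub_self]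
      have := congrArg (quotTensorEquivQuotSMul M J) h0
      rw [map_zero] at this
      rw [← Submodule.Quotient.mk_eq_zero, ← this,
        show (1 : A ⧸ J) = Ideal.Quotient.mk J 1 from rfl]
      simp
    obtain ⟨n, hn⟩ := hJ
    have hpow : ∀ m : ℕ, ∀ x : M, ∃ k, x - q k ∈ J ^ m • (⊤ : Submodule A M) := by
      intro m
      induction m with
      | zero => exact fun x => ⟨0, by simp⟩
      | succ m ih =>
        intro x
        obtain ⟨k, hk⟩ := ih x
        have key : ∀ y ∈ J ^ m • (⊤ : Submodule A M), ∃ k', y - q k' ∈ J ^ (m + 1) • (⊤ : Submodule A M) := by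
          intro y hy
          refine Submodule.smul_induction_on hy (fun r hr z _ => ?_) (fun a c ha hc => ?_)
          · obtain ⟨k', hk'⟩ := h1 z
            refine ⟨r • k', ?_⟩
            rw [map_smul, ← smul_sub, pow_succ, Submodule.mul_smul]
            exact Submodule.smul_mem_smul hr hk'
          · obtain ⟨ka, hka⟩ := ha
            obtain ⟨kc, hkc⟩ := hc
            exact ⟨ka + kc, by rw [map_add, add_sub_add_comm]; exact add_mem hka hkc⟩
        obtain ⟨k', hk'⟩ := key _ hk
        exact ⟨k + k', by rwa [map_add, ← sub_sub]⟩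
    intro x
    obtain ⟨k, hk⟩ := hpow n x
    rw [hn, Ideal.zero_eq_bot, Submodule.bot_smul, Submodule.mem_bot, sub_eq_zero] at hk
    exact ⟨k, hk.symm⟩
  -- relations have coefficients in `J`
  have hkerJ : ∀ k ∈ LinearMap.ker q, ∀ i, k i ∈ J := by
    intro k hk i
    have h0 := hsingle k
    rw [LinearMap.mem_ker.1 hk, TensorProduct.tmul_zero] at h0
    have h1 : k.mapRange (Ideal.Quotient.mk J) (map_zero _) = 0 := by
      have := congrArg b.repr h0.symm
      rwa [b.repr_linearCombination, map_zero] at this
    exact Ideal.Quotient.eq_zero_iff_mem.1 (by simpa using DFunLike.congr_fun h1 i)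
  exact ⟨_, freeness_ideal_of_presentation J hJ Finsupp.basisSingleOne q hq fun k hk i => by
    simpa using hkerJ k hk i⟩

/-- Flatness on a jointly injective family gives freeness. -/
theorem free_of_flat_family (hJ : IsNilpotent J) (hfree : Module.Free (A ⧸ J) ((A ⧸ J) ⊗[A] M))
    {ι : Type u} (B : ι → Type u) [∀ i, CommRing (B i)] [∀ i, Algebra A (B i)]
    (hB : ∀ a : A, (∀ i, algebraMap A (B i) a = 0) → a = 0)
    (hflat : ∀ i, Module.Flat (B i) (B i ⊗[A] M)) : Module.Free A M := by
  obtain ⟨R₀, hR₀⟩ := exists_freeness_ideal J hJ hfree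
  have h0 : R₀ = ⊥ := by
    rw [Submodule.eq_bot_iff]
    intro a ha
    refine hB a fun i => ?_
    rw [← Ideal.mem_bot, ← (hR₀ (B i)).1 (hflat i)]
    exact Ideal.mem_map_of_mem _ ha
  have := (hR₀ A).2 (by rw [h0, Ideal.map_bot])
  exact Module.Free.of_equiv (TensorProduct.lid A M)

end Groth.Agent.FlatSyz
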